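/-
Coset enumeration certificate: the assembled result.
-/
import Cfsg.Agent.Lib.Spor.TC.Steps
import Cfsg.Agent.Lib.Spor.Suz.Rels
import Cfsg.Agent.Lib.Spor.Suz.C0.Part0
import Cfsg.Agent.Lib.Spor.Suz.C0.Part1
import Cfsg.Agent.Lib.Spor.Suz.C0.Part2
import Cfsg.Agent.Lib.Spor.Suz.C0.Part3

namespace CfsgLib.Spor.Suz.C0

open CfsgLib.Spor.TC

theorem steps_ok : cert.StepsOK 0 23938 :=
  (((((((steps0.append _ steps3118).append _ steps6285).append _ steps9426).append _ steps12599).append _ steps15708).append _ steps18869).append _ steps22296)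

theorem rows_ok : cert.RowsOK 23938 1782 0 1782 :=
  (rows0.append _ rows1380)

theorem row_zero : cert.rowNode 0 = 0 := by decide +kernel

/-- The certificate, for the relators as powers of words. -/
noncomputable def cosetCert : CosetCert 7 relsG [0, 1, 2, 3, 4, 5] 1782 :=
  ⟨cert, 23938, steps_ok, rows_ok, row_zero, by decide, rfl, by decide +kernel, by decide +kernel⟩

end CfsgLib.Spor.Suz.C0
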